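import Cfsg.Prelude.Def_Steinberg
import Cfsg.Prelude.Def_ChevG2
import Mathlib.LinearAlgebra.Pi
import Mathlib.Algebra.Module.LinearMap.End
import Mathlib.FieldTheory.Finite.Basic
import Mathlib.Algebra.CharP.Two

/-!
The natural six-dimensional module of G2 over the field with four elements, written over the field
with two elements: a vector has twelve bits, and a twelve by twelve bit matrix is packed in one
natural number.
-/

set_option autoImplicit false

namespace CfsgLib.G2Graph

open Cfsg.Lie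

/-- The module. -/
abbrev V := Fin 12 → ZMod 2

/-- An elementary operation: add coordinate `s` to coordinate `d`. -/
abbrev Move := Fin 12 × Fin 12

/-- The operations of the root elements, indexed by root and field code. -/
def table : List (List Move) := [
  [],
  [(8, 0), (9, 1), (10, 2), (11, 3)],
  [(8, 1), (9, 0), (9, 1), (10, 3), (11, 2), (11, 3)],
  [(8, 0), (8, 1), (9, 0), (10, 2), (10, 3), (11, 2)],
  [],
  [(6, 0), (7, 1), (10, 4), (11, 5)],
  [(6, 1), (7, 0), (7, 1), (10, 5), (11, 4), (11, 5)],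
  [(6, 0), (6, 1), (7, 0), (10, 4), (10, 5), (11, 4)],
  [],
  [(6, 2), (7, 3), (8, 4), (9, 5), (10, 0), (11, 1)],
  [(6, 3), (7, 2), (7, 3), (8, 5), (9, 4), (9, 5), (10, 0), (10, 1), (11, 0)],
  [(6, 2), (6, 3), (7, 2), (8, 4), (8, 5), (9, 4), (10, 1), (11, 0), (11, 1)],
  [],
  [(4, 0), (5, 1), (8, 2), (9, 3), (10, 6), (11, 7)],
  [(4, 1), (5, 0), (5, 1), (8, 2), (8, 3), (9, 2), (10, 7), (11, 6), (11, 7)],
  [(4, 0), (4, 1), (5, 0), (8, 3), (9, 2), (9, 3), (10, 6), (10, 7), (11, 6)],
  [],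
  [(2, 0), (3, 1), (6, 4), (7, 5), (10, 8), (11, 9)],
  [(2, 1), (3, 0), (3, 1), (6, 4), (6, 5), (7, 4), (10, 9), (11, 8), (11, 9)],
  [(2, 0), (2, 1), (3, 0), (6, 5), (7, 4), (7, 5), (10, 8), (10, 9), (11, 8)],
  [],
  [(4, 2), (5, 3), (8, 6), (9, 7)],
  [(4, 3), (5, 2), (5, 3), (8, 7), (9, 6), (9, 7)],
  [(4, 2), (4, 3), (5, 2), (8, 6), (8, 7), (9, 6)],
  [],
  [(2, 4), (3, 5), (6, 8), (7, 9)],
  [(2, 5), (3, 4), (3, 5), (6, 9), (7, 8), (7, 9)],
  [(2, 4), (2, 5), (3, 4), (6, 8), (6, 9), (7, 8)],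
  [],
  [(0, 2), (1, 3), (4, 6), (5, 7), (8, 10), (9, 11)],
  [(0, 3), (1, 2), (1, 3), (4, 6), (4, 7), (5, 6), (8, 11), (9, 10), (9, 11)],
  [(0, 2), (0, 3), (1, 2), (4, 7), (5, 6), (5, 7), (8, 10), (8, 11), (9, 10)],
  [],
  [(0, 4), (1, 5), (2, 8), (3, 9), (6, 10), (7, 11)],
  [(0, 5), (1, 4), (1, 5), (2, 8), (2, 9), (3, 8), (6, 11), (7, 10), (7, 11)],
  [(0, 4), (0, 5), (1, 4), (2, 9), (3, 8), (3, 9), (6, 10), (6, 11), (7, 10)],
  [],
  [(0, 10), (1, 11), (2, 6), (3, 7), (4, 8), (5, 9)],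
  [(0, 10), (0, 11), (1, 10), (2, 7), (3, 6), (3, 7), (4, 9), (5, 8), (5, 9)],
  [(0, 11), (1, 10), (1, 11), (2, 6), (2, 7), (3, 6), (4, 8), (4, 9), (5, 8)],
  [],
  [(0, 6), (1, 7), (4, 10), (5, 11)],
  [(0, 7), (1, 6), (1, 7), (4, 11), (5, 10), (5, 11)],
  [(0, 6), (0, 7), (1, 6), (4, 10), (4, 11), (5, 10)],
  [],
  [(0, 8), (1, 9), (2, 10), (3, 11)],
  [(0, 9), (1, 8), (1, 9), (2, 11), (3, 10), (3, 11)],
  [(0, 8), (0, 9), (1, 8), (2, 10), (2, 11), (3, 10)]]

def moves (r a : ℕ) : List Move := if r < 12 ∧ a < 4 then table.getD (4 * r + a) [] else []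

def stepX (m : Move) (X : ℕ) : ℕ :=
  X ^^^ (((X >>> (12 * m.1.val)) &&& 4095) <<< (12 * m.2.val))

def runX (l : List Move) (X : ℕ) : ℕ := l.foldr stepX X

def ident : ℕ := 0x800400200100080040020010008004002001

def wMoves (w : List (ℕ × ℕ)) : List Move := w.flatMap fun p => moves p.1 p.2

def evX (w : List (ℕ × ℕ)) : ℕ := runX (wMoves w) ident

def stepE (m : Move) : Module.End (ZMod 2) V where
  toFun v := v + Pi.single m.2 (v m.1)
  map_add' u v := by
    rw [Pi.add_apply, Pi.single_add]; abel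
  map_smul' c v := by
    rw [Pi.smul_apply, Pi.single_smul, RingHom.id_apply, smul_add]

def runE (l : List Move) : Module.End (ZMod 2) V := (l.map stepE).prod

/-- The vector packed matrix times vector. -/
def unpack (v : V) (X : ℕ) : V :=
  fun i => ∑ j : Fin 12, if X.testBit (12 * i.val + j.val) then v j else 0

theorem testBit_stepX (m : Move) (X : ℕ) (i j : Fin 12) :
    (stepX m X).testBit (12 * i.val + j.val) =
      ((X.testBit (12 * i.val + j.val)) ^^ (decide (i = m.2) && X.testBit (12 * m.1.val + j.val))) := by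
  obtain ⟨s, d⟩ := m
  rw [stepX, Nat.testBit_xor, Nat.testBit_shiftLeft, Nat.testBit_and, Nat.testBit_shiftRight,
    show (4095 : ℕ) = 2 ^ 12 - 1 from rfl, Nat.testBit_two_pow_sub_one]
  congr 1
  have hi := i.isLt
  have hj := j.isLt
  rcases lt_trichotomy (i.val) (d.val) with h | h | h
  · have h1 : ¬ (12 * d.val ≤ 12 * i.val + j.val) := by omega
    have h2 : i ≠ d := fun e => by omega
    simp [h1, h2]
  · have e : i = d := Fin.ext h
    subst e
    simp [hj]
  · have h1 : ¬ (12 * i.val + j.val - 12 * d.val < 12) := by omega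
    have h2 : i ≠ d := fun e => by omega
    simp [h1, h2]

theorem ite_bool_xor (a b : Bool) (x : ZMod 2) :
    (if a ^^ b then x else 0) = (if a then x else 0) + (if b then x else 0) := by
  cases a <;> cases b <;> simp [CharTwo.add_self_eq_zero]

theorem unpack_stepX (m : Move) (v : V) (X : ℕ) :
    unpack v (stepX m X) = stepE m (unpack v X) := by
  funext i
  show _ = unpack v X i + (Pi.single m.2 (unpack v X m.1) : V) i
  simp only [unpack, testBit_stepX, ite_bool_xor, Finset.sum_add_distrib]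
  congr 1
  by_cases h : i = m.2
  · subst h; simp
  · simp [h]

theorem unpack_runX (l : List Move) (v : V) (X : ℕ) :
    unpack v (runX l X) = runE l (unpack v X) := by
  induction l with
  | nil => rfl
  | cons m l ih =>
    show unpack v (stepX m (runX l X)) = _
    rw [unpack_stepX, ih, runE, runE, List.map_cons, List.prod_cons]
    rfl

theorem testBit_ident : ∀ i j : Fin 12, ident.testBit (12 * i.val + j.val) = decide (i = j) := by
  decide +kernel

theorem unpack_ident (v : V) : unpack v ident = v := by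
  funext i
  simp [unpack, testBit_ident]

theorem unpack_xor (v : V) (X Y : ℕ) : unpack v (X ^^^ Y) = unpack v X + unpack v Y := by
  funext i
  simp only [unpack, Pi.add_apply, Nat.testBit_xor, ite_bool_xor, Finset.sum_add_distrib]

theorem unpack_zero (v : V) : unpack v 0 = 0 := by
  funext i
  simp [unpack]

theorem runE_apply (l : List Move) (v : V) : runE l v = unpack v (runX l ident) := by
  rw [unpack_runX, unpack_ident]

/-- The linear group. -/
abbrev M := (Module.End (ZMod 2) V)ˣ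

theorem chk_invol : ∀ r : Fin 12, ∀ a : Fin 4, evX [(r.val, a.val), (r.val, a.val)] = ident := by
  decide +kernel

theorem runE_eq_one {l : List Move} (h : runX l ident = ident) : runE l = 1 := by
  refine LinearMap.ext fun v => ?_
  rw [runE_apply, h, unpack_ident]
  rfl

theorem runE_append (k l : List Move) : runE (k ++ l) = runE k * runE l := by
  rw [runE, runE, runE, List.map_append, List.prod_append]

theorem moves_invol (r a : ℕ) : runE (moves r a) * runE (moves r a) = 1 := by
  by_cases h : r < 12 ∧ a < 4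
  · rw [← runE_append]
    apply runE_eq_one
    have := chk_invol ⟨r, h.1⟩ ⟨a, h.2⟩
    simpa [evX, wMoves] using this
  · rw [moves, if_neg h]
    rfl

/-- The root element. -/
def gen (p : ℕ × ℕ) : M :=
  ⟨runE (moves p.1 p.2), runE (moves p.1 p.2), moves_invol p.1 p.2, moves_invol p.1 p.2⟩

def gW (w : List (ℕ × ℕ)) : M := (w.map gen).prod

theorem gW_append (u w : List (ℕ × ℕ)) : gW (u ++ w) = gW u * gW w := by
  rw [gW, gW, gW, List.map_append, List.prod_append]

theorem gW_cons (p : ℕ × ℕ) (w : List (ℕ × ℕ)) : gW (p :: w) = gen p * gW w := List.prod_cons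

theorem gW_val (w : List (ℕ × ℕ)) : ((gW w : M) : Module.End (ZMod 2) V) = runE (wMoves w) := by
  induction w with
  | nil => rfl
  | cons p w ih =>
    rw [gW_cons, Units.val_mul, ih]
    exact (runE_append (moves p.1 p.2) (wMoves w)).symm

theorem gW_apply (w : List (ℕ × ℕ)) (v : V) :
    ((gW w : M) : Module.End (ZMod 2) V) v = unpack v (evX w) := by
  rw [gW_val, runE_apply]
  rfl

theorem gW_eq_one {w : List (ℕ × ℕ)} (h : evX w = ident) : gW w = 1 :=
  Units.ext (by rw [gW_val, runE_eq_one h]; rfl)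

theorem gW_ne_one {w : List (ℕ × ℕ)}
    (h : ∃ i j : Fin 12, (evX w).testBit (12 * i.val + j.val) ≠ decide (i = j)) : gW w ≠ 1 := by
  obtain ⟨i, j, hij⟩ := h
  intro e
  have h1 := congrFun (gW_apply w (Pi.single j 1)) i
  rw [e] at h1
  change (Pi.single j (1 : ZMod 2) : V) i = _ at h1
  simp only [unpack, Pi.single_apply] at h1
  rw [Finset.sum_eq_single j (fun x _ hx => by simp [hx]) (fun hx => absurd (Finset.mem_univ j) hx)] at h1
  revert h1 hij
  cases (evX w).testBit (12 * i.val + j.val) <;> by_cases hc : i = j <;> simp [hc]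

theorem gen_mul_self (p : ℕ × ℕ) : gen p * gen p = 1 := Units.ext (moves_invol p.1 p.2)

theorem gen_inv (p : ℕ × ℕ) : (gen p)⁻¹ = gen p := inv_eq_of_mul_eq_one_right (gen_mul_self p)

theorem gW_reverse (w : List (ℕ × ℕ)) : gW w.reverse = (gW w)⁻¹ := by
  induction w with
  | nil => simp [gW]
  | cons p w ih => rw [List.reverse_cons, gW_append, ih, gW_cons, gW_cons, mul_inv_rev, gen_inv]; simp [gW]

def wPow (w : List (ℕ × ℕ)) : ℕ → List (ℕ × ℕ)
  | 0 => []
  | n + 1 => w ++ wPow w n

theorem gW_wPow (w : List (ℕ × ℕ)) (n : ℕ) : gW (wPow w n) = gW w ^ n := by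
  induction n with
  | zero => rfl
  | succ n ih => rw [wPow, gW_append, ih, pow_succ']

def sumX (w : List (ℕ × ℕ)) : ℕ → ℕ
  | 0 => 0
  | n + 1 => sumX w n ^^^ evX (wPow w n)

theorem unpack_sumX (w : List (ℕ × ℕ)) (v : V) (n : ℕ) :
    unpack v (sumX w n) = ∑ k ∈ Finset.range n, ((gW w ^ k : M) : Module.End (ZMod 2) V) v := by
  induction n with
  | zero => simp [sumX, unpack_zero]
  | succ n ih => rw [sumX, unpack_xor, ih, Finset.sum_range_succ, ← gW_wPow, gW_apply]

/-- An element killed by `1 + z + ⋯ + z^(n-1)`, `n` odd, fixes no nonzero vector. -/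
theorem fixed_eq_zero {w : List (ℕ × ℕ)} {n : ℕ} (hn : Odd n) (h : sumX w n = 0) {v : V}
    (hv : ((gW w : M) : Module.End (ZMod 2) V) v = v) : v = 0 := by
  have hk : ∀ k : ℕ, ((gW w ^ k : M) : Module.End (ZMod 2) V) v = v := fun k => by
    induction k with
    | zero => rfl
    | succ k ih => rw [pow_succ, Units.val_mul, Module.End.mul_apply, hv, ih]
  have e := unpack_sumX w v n
  rw [h, unpack_zero, Finset.sum_congr rfl fun k _ => hk k, Finset.sum_const, Finset.card_range] at e
  obtain ⟨k, rfl⟩ := hn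
  rw [add_nsmul, mul_comm 2 k, mul_nsmul', two_nsmul] at e
  simp only [CharTwo.add_self_eq_zero, one_nsmul] at e
  have h0 : v + v = 0 := funext fun i => CharTwo.add_self_eq_zero (v i)
  simpa [h0] using e.symm

/-! ### The field with four elements -/

def mul4 (a b : ℕ) : ℕ := ([0, 0, 0, 0, 0, 1, 2, 3, 0, 2, 3, 1, 0, 3, 1, 2] : List ℕ).getD (4 * a + b) 0

def inv4 (a : ℕ) : ℕ := ([0, 1, 3, 2] : List ℕ).getD a 0

def pw (a : ℕ) : ℕ → ℕ
  | 0 => 1
  | n + 1 => mul4 (pw a n) a

theorem inv4_spec : ∀ a b : Fin 4, mul4 a.val b.val = 1 → b.val = inv4 a.val := by decide +kernel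

variable {F : Type*} [Field F] [Fintype F]

theorem exists_code (hF : Fintype.card F = 4) : ∃ enc : F → ℕ, (∀ x, enc x < 4) ∧ enc 0 = 0 ∧ enc 1 = 1 ∧
    (∀ x y, enc (x + y) = enc x ^^^ enc y) ∧ (∀ x y, enc (x * y) = mul4 (enc x) (enc y)) := by
  classical
  have h2 : (2 : F) = 0 := by
    have := FiniteField.cast_card_eq_zero F
    rw [hF, show ((4 : ℕ) : F) = 2 * 2 by norm_num] at this
    exact mul_self_eq_zero.mp this
  obtain ⟨w, hw0, hw1⟩ : ∃ w : F, w ≠ 0 ∧ w ≠ 1 := by
    by_contra hc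
    push Not at hc
    have hsub : (Finset.univ : Finset F) ⊆ {0, 1} := fun x _ => by
      by_cases hx : x = 0
      · simp [hx]
      · simp [hc x hx]
    have := (Finset.card_le_card hsub).trans (Finset.card_le_two)
    rw [Finset.card_univ, hF] at this
    omega
  have hw : w * w = w + 1 := by
    have h3 : w ^ 3 = 1 := by
      have := FiniteField.pow_card_sub_one_eq_one w hw0
      rwa [hF] at this
    have : (w - 1) * (w * w + w + 1) = 0 := by linear_combination h3
    rcases mul_eq_zero.mp this with h | h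
    · exact absurd (sub_eq_zero.mp h) hw1
    · linear_combination h - (w + 1) * h2
  let dec : Fin 4 → F := ![0, 1, w, w + 1]
  have hinj : Function.Injective dec := by
    intro a b hab
    fin_cases a <;> fin_cases b <;> simp [dec] at hab ⊢ <;> grind
  have hbij : Function.Bijective dec := (Fintype.bijective_iff_injective_and_card dec).mpr ⟨hinj, by simp [hF]⟩
  let e := Equiv.ofBijective dec hbij
  have he : ∀ a, e.symm (dec a) = a := e.symm_apply_apply
  refine ⟨fun x => (e.symm x).val, fun x => (e.symm x).isLt, congrArg Fin.val (he 0), congrArg Fin.val (he 1), ?_, ?_⟩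
  · intro x y
    obtain ⟨a, rfl⟩ := hbij.2 x
    obtain ⟨b, rfl⟩ := hbij.2 y
    have hlt : a.val ^^^ b.val < 4 := Nat.xor_lt_two_pow (n := 2) a.isLt b.isLt
    have hd : dec a + dec b = dec ⟨a.val ^^^ b.val, hlt⟩ := by
      fin_cases a <;> fin_cases b <;> simp [dec] <;> grind
    simp only [hd, he]
  · intro x y
    obtain ⟨a, rfl⟩ := hbij.2 x
    obtain ⟨b, rfl⟩ := hbij.2 y
    have hlt : ∀ a b : Fin 4, mul4 a.val b.val < 4 := by decide +kernel
    have hd : dec a * dec b = dec ⟨mul4 a.val b.val, hlt a b⟩ := by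
      fin_cases a <;> fin_cases b <;> simp [dec, mul4] <;> grind
    simp only [hd, he]

/-! ### The relations -/

def cw (a b : ℕ) (c : ℕ × ℤ × ℕ × ℕ) : ℕ × ℕ :=
  (c.1, mul4 (mul4 (c.2.1 % 2).toNat (pw a c.2.2.1)) (pw b c.2.2.2))

def nW (r a : ℕ) : List (ℕ × ℕ) := [(r, a), (chevG2.neg r, inv4 a), (r, a)]

def hW (r a : ℕ) : List (ℕ × ℕ) := nW r a ++ nW r 1

theorem chk_R1 : ∀ r : Fin 12, ∀ a b : Fin 4,
    evX [(r.val, a.val), (r.val, b.val), (r.val, a.val ^^^ b.val)] = ident := by decide +kernel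

theorem chk_R2 : ∀ r s : Fin 12, s.val ≠ r.val → s.val ≠ chevG2.neg r.val → ∀ a b : Fin 4,
    evX ([(s.val, b.val), (r.val, a.val), (s.val, b.val), (r.val, a.val)] ++
      ((chevG2.commTerms r.val s.val).map (cw a.val b.val)).reverse) = ident := by decide +kernel

theorem chk_R3 : ∀ r : Fin 12, ∀ a b : Fin 4, a.val ≠ 0 → b.val ≠ 0 →
    evX (hW r.val a.val ++ hW r.val b.val ++ (hW r.val (mul4 a.val b.val)).reverse) = ident := by
  decide +kernel

theorem exists_rep (hF : Fintype.card F = 4) : ∃ (enc : F → ℕ) (dec : ℕ → F)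
    (f : chevG2.SteinbergGroup F →* M), (∀ a < 4, enc (dec a) = a) ∧
    ∀ r t, f (chevG2.stGen F r t) = gW [(r, enc t)] := by
  classical
  obtain ⟨enc, hlt, h0, h1, hadd, hmul⟩ := exists_code hF
  have hinj : Function.Injective enc := by
    intro x y hxy
    by_contra hne
    have hs : enc (x - y) = 0 := by
      have hz := hadd (x - y) y
      rw [sub_add_cancel, hxy] at hz
      have := congrArg (fun n => n ^^^ enc y) hz
      simpa [Nat.xor_assoc] using this.symm
    have hu := hmul (x - y) (x - y)⁻¹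
    rw [mul_inv_cancel₀ (sub_ne_zero.mpr hne), h1, hs] at hu
    have hz : ∀ b : Fin 4, mul4 0 b.val = 0 := by decide +kernel
    have h' := hu.trans (hz ⟨_, hlt (x - y)⁻¹⟩)
    exact absurd h' one_ne_zero
  have hneg : ∀ x : F, enc (-x) = enc x := by
    intro x
    have h := hadd (-x) x
    rw [neg_add_cancel, h0] at h
    exact Nat.xor_eq_zero_iff.mp h.symm
  have hne0 : ∀ {x : F}, x ≠ 0 → enc x ≠ 0 := fun hx h => hx (hinj (h.trans h0.symm))
  have hinv : ∀ x : F, enc x⁻¹ = inv4 (enc x) := by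
    intro x
    rcases eq_or_ne x 0 with rfl | hx
    · rw [inv_zero, h0]; rfl
    · have := hmul x x⁻¹
      rw [mul_inv_cancel₀ hx, h1] at this
      exact inv4_spec ⟨_, hlt x⟩ ⟨_, hlt x⁻¹⟩ this.symm
  have hpow : ∀ (x : F) (n : ℕ), enc (x ^ n) = pw (enc x) n := by
    intro x n
    induction n with
    | zero => rw [pow_zero, h1]; rfl
    | succ n ih => rw [pow_succ, hmul, ih]; rfl
  have h2 : (2 : F) = 0 := by
    refine hinj ?_
    rw [← one_add_one_eq_two, hadd, Nat.xor_self, h0]
  have hint : ∀ z : ℤ, enc (z : F) = (z % 2).toNat := by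
    intro z
    have e : (z : F) = ((z % 2 : ℤ) : F) := by
      conv_lhs => rw [← Int.emod_add_mul_ediv z 2]
      push_cast
      rw [h2, zero_mul, add_zero]
    rcases Int.emod_two_eq_zero_or_one z with h | h <;> rw [e, h] <;> simp [h0, h1]
  have hsurj : ∀ a < 4, ∃ x, enc x = a := by
    intro a ha
    have hb : Function.Bijective (fun x : F => (⟨enc x, hlt x⟩ : Fin 4)) :=
      (Fintype.bijective_iff_injective_and_card _).mpr
        ⟨fun x y h => hinj (congrArg Fin.val h), by simp [hF]⟩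
    obtain ⟨x, hx⟩ := hb.2 ⟨a, ha⟩
    exact ⟨x, congrArg Fin.val hx⟩
  choose dec hdec using hsurj
  let g : Fin chevG2.nroots × F → M := fun p => gW [(p.1.val, enc p.2)]
  have hX : ∀ r t, FreeGroup.lift g (chevG2.stX r t) = gW [(r, enc t)] := by
    intro r t
    unfold ChevalleyDatum.stX
    split_ifs with h
    · simp [g]
    · have hr : ¬ r < 12 := h
      have hg : gen (r, enc t) = 1 := Units.ext (by simp [gen, moves, hr, runE])
      rw [map_one, gW_cons, hg]
      simp [gW]
  have hW' : ∀ w : List (ℕ × F), FreeGroup.lift g (chevG2.stWord w) =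
      gW (w.map fun p => (p.1, enc p.2)) := by
    intro w
    induction w with
    | nil => simp [ChevalleyDatum.stWord, gW]
    | cons p w ih =>
      rw [ChevalleyDatum.stWord, List.map_cons, List.prod_cons, map_mul, hX]
      rw [ChevalleyDatum.stWord] at ih
      rw [ih, List.map_cons, ← gW_append]
      rfl
  have hH : ∀ r t, (chevG2.hWord r t).map (fun p : ℕ × F => (p.1, enc p.2)) = hW r (enc t) := by
    intro r t
    simp [ChevalleyDatum.hWord, ChevalleyDatum.nWord, hW, nW, hneg, hinv, h1, inv4]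
  have hrel : ∀ x ∈ chevG2.steinbergRels F, FreeGroup.lift g x = 1 := by
    rintro x ((⟨r, t, u, hr, rfl⟩ | ⟨r, s, t, u, hr, hs, hsr, hsn, rfl⟩) | ⟨r, t, u, hr, ht, hu, rfl⟩)
    · rw [map_mul, map_mul, map_inv, hX, hX, hX, hadd, ← gW_reverse, ← gW_append, ← gW_append]
      exact gW_eq_one (chk_R1 ⟨r, hr⟩ ⟨_, hlt t⟩ ⟨_, hlt u⟩)
    · rw [map_mul, map_mul, map_mul, map_mul, map_inv, map_inv, map_inv, hX, hX, hW', ← gW_reverse,
        ← gW_reverse, ← gW_reverse, ← gW_append, ← gW_append, ← gW_append, ← gW_append]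
      have e : (chevG2.commWord F r s t u).map (fun p : ℕ × F => (p.1, enc p.2)) =
          (chevG2.commTerms r s).map (cw (enc t) (enc u)) := by
        rw [ChevalleyDatum.commWord, List.map_map]
        refine List.map_congr_left fun c _ => ?_
        simp [cw, hmul, hpow, hneg, hint]
      rw [e]
      exact gW_eq_one (chk_R2 ⟨r, hr⟩ ⟨s, hs⟩ hsr hsn ⟨_, hlt t⟩ ⟨_, hlt u⟩)
    · rw [map_mul, map_mul, map_inv]
      simp only [ChevalleyDatum.stH, hW', hH, hmul]
      rw [← gW_reverse, ← gW_append, ← gW_append]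
      exact gW_eq_one (chk_R3 ⟨r, hr⟩ ⟨_, hlt t⟩ ⟨_, hlt u⟩ (hne0 ht) (hne0 hu))
  refine ⟨enc, fun a => if h : a < 4 then dec a h else 0, PresentedGroup.toGroup hrel,
    fun a ha => by simp only [dif_pos ha, hdec], fun r t => ?_⟩
  rw [← hX]
  rfl

end CfsgLib.G2Graph
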